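import Cfsg.Agent.H514.K4B0.Defs
import Cfsg.Agent.H601.K4.Defs

/-!
# Four characters of odd degree in the principal block (S4925, helper514): the rows

* `rowAB_of_good5`, `rowAB_of_five` : five odd-degree characters in the principal block;
* `rowAB_of_rowA` : `RowA S` implies `RowAB M S` if the centralizers of the Sylow `2`-subgroups are `2`-groups.
-/

set_option autoImplicit false

namespace Cfsg.Agent.H514.K4B0

open Cfsg Subgroup
open Cfsg.Agent.H601.K4 (OddIrr InB0 Good5 Odd5)

universe u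

variable {M : Ideal AlgInt} {S : Type u} [Group S] [Finite S]

theorem five_le_kb_of_five (hM : IsPModular 2 M) (χ : Fin 5 → S → ℂ) (hinj : Function.Injective χ)
    (h : ∀ i, OddIrr (χ i) ∧ InB0 (χ i)) : 5 ≤ kb M S := by
  have hf : Finite {χ : IrrCharacter S // χ ∈ principalBlock M S ∧ ¬ 2 ∣ charDegree (χ : S → ℂ)} := by
    have := Characters.Core.finite_irr (G := S)
    exact Subtype.finite
  have h1 := Nat.card_le_card_of_injective
    (fun i => (⟨⟨χ i, (h i).1.1⟩, (h i).2 M hM (h i).1.1, (h i).1.2⟩ :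
      {χ : IrrCharacter S // χ ∈ principalBlock M S ∧ ¬ 2 ∣ charDegree (χ : S → ℂ)}))
    (fun i j hij => hinj (congrArg (fun χ => (χ.1 : IrrCharacter S).1) hij))
  rwa [Nat.card_fin] at h1

theorem rowAB_of_five (hM : IsPModular 2 M) (χ : Fin 5 → S → ℂ) (hinj : Function.Injective χ)
    (h : ∀ i, OddIrr (χ i) ∧ InB0 (χ i)) : RowAB M S := Or.inr (five_le_kb_of_five hM χ hinj h)

theorem rowAB_of_good5 (hM : IsPModular 2 M) (h : Good5 S) : RowAB M S := by
  obtain ⟨χ, hinj, h⟩ := h
  exact rowAB_of_five hM χ hinj fun i => ⟨(h i).odd, (h i).b0⟩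

/-- Centralizers of Sylow `2`-subgroups which are `2`-groups. -/
theorem kb_eq_k0_of_centralizer (hM : IsPModular 2 M) (P : Sylow 2 S)
    (hC : IsPGroup 2 (centralizer ((P : Subgroup S) : Set S))) : kb M S = H714.K4.k0 S := by
  have : Fact (Nat.Prime 2) := ⟨Nat.prime_two⟩
  refine Nat.card_congr (Equiv.subtypeEquivRight fun χ => ?_)
  exact ⟨fun h => h.2, fun h => ⟨H633.Unique.mem_of_centralizer hM P hC χ h, h⟩⟩

theorem rowAB_of_rowA (hM : IsPModular 2 M) (P : Sylow 2 S)
    (hC : IsPGroup 2 (centralizer ((P : Subgroup S) : Set S))) (h : H714.K4.RowA S) : RowAB M S := by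
  rcases h with h | h
  · exact Or.inl h
  · exact Or.inr (by rwa [kb_eq_k0_of_centralizer hM P hC])

end Cfsg.Agent.H514.K4B0
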