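import Cfsg.Agent.H514.K4B0.Comp
import Cfsg.Agent.H714.K4.Red
import Cfsg.Agent.Lib.PSolvable
import Cfsg.Agent.S0205

/-!
# Four characters of odd degree in the principal block (S4925, helper514): the reduction

* `IdxTwoB M` : the statement for the groups with a subgroup of index `2`;
* `OddIdxB M` : `kb M N ≤ 4` for the normal subgroups `N` of odd index of the groups `G` with `kb M G = 4`;
* `reduction` : these two and `RowAB M S` for the simple non-abelian groups `S` imply `|P : P'| = 4` for the finite
  groups with `kb M G = 4`.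
-/

set_option autoImplicit false

namespace Cfsg.Agent.H514.K4B0

open Cfsg Subgroup Cfsg.Agent.Characters.Core
open Cfsg.Agent.Blocks Cfsg.Agent.Blocks.Local
open Cfsg.Agent.H714.K4 (odd odd_finite k0 k0_eq minimal_cases exists_index_two abelian_case index_commutator_congr)

universe u

variable {M : Ideal AlgInt}

/-- The statement for the groups with a subgroup of index `2`. -/
def IdxTwoB (M : Ideal AlgInt) : Prop := ∀ (G : Type u) [Group G] [Finite G], kb M G = 4 →
  (∃ K : Subgroup G, K.index = 2) → ∀ P : Sylow 2 G, (commutator ↥P).index = 4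

/-- Normal subgroups of odd index. -/
def OddIdxB (M : Ideal AlgInt) : Prop := ∀ (G : Type u) [Group G] [Finite G] (N : Subgroup G) [N.Normal],
  kb M G = 4 → ¬ 2 ∣ N.index → kb M N ≤ 4

/-- Groups with one `2`-block. -/
theorem kb_eq_k0 {G : Type u} [Group G] [Finite G] (hM : IsPModular 2 M) (hs : IsPSolvable 2 G)
    (hc : pPrimeCore 2 G = ⊥) : kb M G = k0 G := by
  have : Fact (Nat.Prime 2) := ⟨Nat.prime_two⟩
  refine Nat.card_congr (Equiv.subtypeEquivRight fun χ => ?_)
  refine ⟨fun h => h.2, fun h => ⟨?_, h⟩⟩
  rw [H633.Principal.mem_principalBlock_iff_of_pSolvable hM hs, hc]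
  intro n hn
  rw [mem_bot.1 hn]

/-- `G` with a normal `2`-subgroup of odd index. -/
theorem pSolvable_of_normal {G : Type u} [Group G] [Finite G] (N : Subgroup G) [N.Normal] (h2N : IsPGroup 2 N)
    (hodd : ¬ 2 ∣ N.index) : IsPSolvable 2 G := by
  have : Fact (Nat.Prime 2) := ⟨Nat.prime_two⟩
  refine Lib.PSolvable.IsPSolvable_of_quotient 2 N (Or.inl (IsPGroup.iff_card.1 h2N)) ?_
  have : Group.IsSolvable (G ⧸ N) := S0205.result (by
    rw [← index_eq_card]
    exact Nat.not_even_iff_odd.1 fun h => hodd h.two_dvd)
  exact Lib.PSolvable.IsPSolvable_of_solvable 2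

/-- **The reduction of the `2`-part of S4925 to the simple groups.** -/
theorem reduction (hM : IsPModular 2 M) (hidx : IdxTwoB.{u} M) (hoi : OddIdxB.{u} M)
    (hA : ∀ (S : Type u) [Group S] [Finite S] [IsSimpleGroup S], ¬ IsMulCommutative S → RowAB M S)
    (G : Type u) [Group G] [Finite G] (h4 : kb M G = 4) (P : Sylow 2 G) : (commutator ↥P).index = 4 := by
  suffices H : ∀ (n : ℕ) (G : Type u) [Group G] [Finite G], Nat.card G = n → kb M G = 4 → ∀ P : Sylow 2 G,
      (commutator ↥P).index = 4 from H _ G rfl h4 P
  intro n
  induction n using Nat.strong_induction_on with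
  | _ n ih =>
    intro G _ _ hn h4 P
    have h4G : 4 ∣ Nat.card G := four_dvd_of_kb hM h4
    have : Nontrivial G := by
      rw [← Finite.one_lt_card_iff_nontrivial]
      exact lt_of_lt_of_le (by norm_num) (Nat.le_of_dvd Nat.card_pos h4G)
    -- the quotients
    by_cases hex : ∃ N : Subgroup G, N.Normal ∧ N ≠ ⊥ ∧ 4 ∣ N.index
    · obtain ⟨N, hN, hNb, hi⟩ := hex
      have hk := kb_quot hM N h4 hi
      refine quot_step hM N (by rw [hk, h4]) P (ih (Nat.card (G ⧸ N)) ?_ (G ⧸ N) rfl hk)
      rw [← hn, ← N.card_mul_index, ← index_eq_card]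
      have h1 : 1 < Nat.card N := (one_lt_card_iff_ne_bot N).2 hNb
      have h2 : 0 < N.index := Nat.pos_of_ne_zero index_ne_zero_of_finite
      nlinarith
    push Not at hex
    have hcore : pPrimeCore 2 G = ⊥ := by
      by_contra hne
      refine hex _ (Lib.Cores.pPrimeCore_normal 2) hne ?_
      have h1 := Lib.Cores.pPrimeCore_coprime (G := G) 2
      have h2 : (Nat.card (pPrimeCore 2 G)).Coprime 4 := by
        rw [show (4 : ℕ) = 2 ^ 2 by norm_num]
        exact Nat.Coprime.pow_right 2 h1
      rw [← (pPrimeCore 2 G).card_mul_index] at h4G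
      exact h2.symm.dvd_of_dvd_mul_left h4G
    obtain ⟨N, hN, hNb, hmin⟩ := H364.exists_minimal_normal G
    have hi := hex N hN hNb
    by_cases h2 : 2 ∣ N.index
    · exact hidx G h4 (exists_index_two N (by omega)) P
    rcases minimal_cases N hNb hmin with ⟨r, hr, hrN⟩ | ⟨hcomp, -⟩
    · -- `N` is a `2`-group
      have hr2 : r = 2 := by
        by_contra hne
        have : Fact r.Prime := ⟨hr⟩
        obtain ⟨k, hk⟩ := IsPGroup.iff_card.1 hrN
        have h5 : (Nat.card N).Coprime 4 := by
          rw [hk, show (4 : ℕ) = 2 ^ 2 by norm_num]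
          exact Nat.Coprime.pow _ _ ((Nat.coprime_primes hr Nat.prime_two).2 hne)
        rw [← N.card_mul_index] at h4G
        exact hi (h5.symm.dvd_of_dvd_mul_left h4G)
      subst hr2
      have hk0 : k0 G = 4 := by rw [← kb_eq_k0 hM (pSolvable_of_normal N hrN h2) hcore, h4]
      refine abelian_case N hk0 h2 ?_ hrN P
      have hcle : (⁅N, N⁆ : Subgroup G) ≤ N := commutator_le_left N N
      rcases hmin ⁅N, N⁆ inferInstance hcle with h | h
      · rw [commutator_eq_bot_iff_le_centralizer] at h
        intro a ha b hb
        exact (mem_centralizer_iff.1 (h ha) b hb).symm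
      · exfalso
        have hnil : Group.IsNilpotent N := hrN.isNilpotent
        have hsol : Group.IsSolvable N := inferInstance
        have h5 : commutator N = ⊤ := by
          apply map_injective N.subtype_injective
          rw [_root_.commutator_def, map_commutator, ← MonoidHom.range_eq_map, N.range_subtype, h]
        have hnt : Nontrivial N := (nontrivial_iff_ne_bot N).2 hNb
        exact (Group.IsSolvable.commutator_lt_top_of_nontrivial N).ne h5
    · -- `N` has a simple direct factor
      have h5 := hoi G N h4 h2
      by_cases hs : IsSimpleGroup N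
      · have hna : ¬ IsMulCommutative N := by
          intro hab
          obtain ⟨S, -, -, hSna, -⟩ := hcomp
          exact hSna ⟨⟨fun a b => Subtype.ext (hab.is_comm.comm (a : N) b)⟩⟩
        rcases hA N hna with h | h
        · have hPN : (P : Subgroup G) ≤ N := by
            intro x hx
            have h7 : (x : G ⧸ N) = 1 := by
              have h8 : orderOf (x : G ⧸ N) ∣ N.index := by
                rw [index_eq_card]
                exact orderOf_dvd_natCard _
              obtain ⟨k, hk⟩ := P.isPGroup' ⟨x, hx⟩
              have h9 : (x : G ⧸ N) ^ 2 ^ k = 1 := by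
                have h10 : x ^ 2 ^ k = 1 := congrArg Subtype.val hk
                have := congrArg (QuotientGroup.mk' N) h10
                simpa using this
              obtain ⟨j, -, hj⟩ := (Nat.dvd_prime_pow Nat.prime_two).1 (orderOf_dvd_of_pow_eq_one h9)
              rcases Nat.eq_zero_or_pos j with rfl | hpos
              · exact orderOf_eq_one_iff.1 hj
              · exact absurd ((dvd_pow_self 2 hpos.ne').trans (hj ▸ h8)) h2
            exact (QuotientGroup.eq_one_iff x).1 h7
          have h8 := h (P.subtype hPN)
          rw [← h8]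
          exact index_commutator_congr (A := P) (B := (P.subtype hPN : Sylow 2 N))
            (subgroupOfEquivOfLe hPN).symm
        · omega
      · have := five_le_kb hM hcomp hs
        omega

end Cfsg.Agent.H514.K4B0
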