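import Cfsg.Agent.H514.K4B0.Quot
import Cfsg.Agent.H714.K4.Semi

/-!
# Four characters of odd degree in the principal block (S4925, helper514): groups with a simple direct factor

* `five_le_kb` : a non-simple direct product of a simple non-abelian group and a group of order divisible by `4`
  has five odd-degree characters in the principal block.
-/

set_option autoImplicit false

namespace Cfsg.Agent.H514.K4B0

open Cfsg Subgroup Cfsg.Agent.Characters.Core
open Cfsg.Agent.Blocks Cfsg.Agent.Blocks.Local
open Cfsg.Agent.H714.K4 (odd odd_finite oddK oddK_inter Comp four_dvd card_quot_centralizer oddK_finite)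

universe u

variable {M : Ideal AlgInt} {N : Type u} [Group N] [Finite N]

/-- The inflated characters. -/
def infb (M : Ideal AlgInt) (C : Subgroup N) [C.Normal] : Set (N → ℂ) :=
  (fun (ψ : N ⧸ C → ℂ) (g : N) => ψ (QuotientGroup.mk' C g)) '' ob M (N ⧸ C)

omit [Finite N] in
theorem infb_subset [M.IsPrime] (C : Subgroup N) [C.Normal] : infb M C ⊆ ob M N := by
  rintro _ ⟨ψ, hψ, rfl⟩
  exact ob_comp (QuotientGroup.mk' C) (QuotientGroup.mk'_surjective C) hψ

omit [Finite N] in
theorem infb_subset_oddK [M.IsPrime] (C : Subgroup N) [C.Normal] : infb M C ⊆ oddK C := by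
  rintro _ ⟨ψ, hψ, rfl⟩
  refine ⟨(ob_comp (QuotientGroup.mk' C) (QuotientGroup.mk'_surjective C) hψ).1, fun c hc => ?_⟩
  have h5 : QuotientGroup.mk' C c = 1 := (QuotientGroup.eq_one_iff c).2 hc
  show ψ (QuotientGroup.mk' C c) = ψ (QuotientGroup.mk' C 1)
  rw [h5, map_one]

omit [Finite N] in
theorem ncard_infb (C : Subgroup N) [C.Normal] : (infb M C).ncard = kb M (N ⧸ C) := by
  rw [infb, Set.ncard_image_of_injective, ← kb_eq]
  intro α β hab
  funext q
  obtain ⟨g, rfl⟩ := QuotientGroup.mk'_surjective C q
  exact congrFun hab g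

theorem five_le_kb_of (hM : IsPModular 2 M) {S : Subgroup N} [S.Normal] [IsSimpleGroup S]
    (hna : ¬ IsMulCommutative S) (htop : S ⊔ centralizer (S : Set N) = ⊤)
    (h4 : 4 ∣ Nat.card (centralizer (S : Set N))) : 5 ≤ kb M N := by
  have : M.IsPrime := isPrime_of_isPModular hM
  obtain ⟨c1, c2⟩ := card_quot_centralizer hna htop
  have h1 := four_le_kb (G := N ⧸ centralizer (S : Set N)) hM (by rw [c1]; exact four_dvd hna)
  have h2 := four_le_kb (G := N ⧸ S) hM (by rw [c2]; exact h4)
  rw [← ncard_infb] at h1 h2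
  have f1 : (infb M (centralizer (S : Set N))).Finite := (ob_finite M N).subset (infb_subset _)
  have f2 : (infb M S).Finite := (ob_finite M N).subset (infb_subset _)
  have h3 := Set.ncard_union_add_ncard_inter (infb M S) (infb M (centralizer (S : Set N))) f2 f1
  have h5 : (infb M S ∩ infb M (centralizer (S : Set N))).ncard ≤ 1 := by
    rw [← Set.ncard_singleton (1 : N → ℂ), ← oddK_inter htop]
    exact Set.ncard_le_ncard (Set.inter_subset_inter (infb_subset_oddK _) (infb_subset_oddK _))
      ((oddK_finite _).subset Set.inter_subset_left)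
  have h6 : (infb M S ∪ infb M (centralizer (S : Set N))).ncard ≤ (ob M N).ncard :=
    Set.ncard_le_ncard (Set.union_subset (infb_subset _) (infb_subset _)) (ob_finite M N)
  rw [kb_eq]
  omega

theorem five_le_kb (hM : IsPModular 2 M) (h : Comp N) (hs : ¬ IsSimpleGroup N) : 5 ≤ kb M N := by
  obtain ⟨S, h1, h2, h3, h4, h5⟩ := h
  have hC : centralizer (S : Set N) ≠ ⊥ := by
    intro hC
    rw [hC, sup_bot_eq] at h4
    apply hs
    rw [h4] at h2
    exact (topEquiv (G := N)).symm.isSimpleGroup
  exact five_le_kb_of hM h3 h4 (h5 hC)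

end Cfsg.Agent.H514.K4B0
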