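import Cfsg.Agent.H514.K4B0.Defs
import Cfsg.Agent.H611.RealBlock
import Cfsg.Agent.Blocks.Osima

/-!
# Four characters of odd degree in the principal block (S4925, helper514): counting

* `dvd_sum_block` : `|G|_p ∣ ∑_{χ ∈ B} χ(1)²`;
* `four_dvd_block` : if `4 ∣ |G|`, each `2`-block has `4 n` characters of odd degree;
* `four_dvd_kb`, `four_le_kb`;
* `k0_mod_eight` : if `4 ∣ |G|`, the number of all characters of odd degree and the number of those in the principal
  block are congruent modulo `8`.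
-/

set_option autoImplicit false

namespace Cfsg.Agent.H514.K4B0

open Cfsg Subgroup Cfsg.Agent.Characters.Core
open Cfsg.Agent.Blocks Cfsg.Agent.Blocks.Local
open Cfsg.Agent.H714.K4 (odd odd_finite k0 k0_eq)
open scoped ComplexConjugate

universe u

variable {M : Ideal AlgInt} {G : Type u} [Group G] [Finite G]

/-- `|G|_p ∣ ∑_{χ ∈ B} χ(1)²` -/
theorem dvd_sum_block {p : ℕ} (hM : IsPModular p M) [Fintype (IrrCharacter G)] {B : Set (IrrCharacter G)}
    [DecidablePred (· ∈ B)] (hB : IsPBlock M B) {a : ℕ} (ha : p ^ a ∣ Nat.card G) :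
    ((p ^ a : ℕ) : ℤ) ∣ ∑ χ : IrrCharacter G, if χ ∈ B then (charDegree (χ : G → ℂ) : ℤ) ^ 2 else 0 := by
  have h1 := Osima.memLocalRing_blockCoeff hM hB (1 : G)
  rw [Osima.blockCoeff_eq_sum] at h1
  refine H703.Lat.dvd_of_local hM (Nat.card_pos (α := G)).ne' ?_ ha
  convert h1 using 2
  rw [Int.cast_sum]
  refine Finset.sum_congr rfl fun χ _ => ?_
  by_cases h : χ ∈ B
  · rw [if_pos h, if_pos h, Basic.irr_one_eq_charDegree χ.2, Complex.conj_natCast]
    push_cast
    ring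
  · rw [if_neg h, if_neg h, Int.cast_zero]

theorem four_dvd_block (hM : IsPModular 2 M) [Fintype (IrrCharacter G)] {B : Set (IrrCharacter G)}
    [DecidablePred fun χ : IrrCharacter G => χ ∈ B ∧ ¬ 2 ∣ charDegree (χ : G → ℂ)]
    (hB : IsPBlock M B) (h4 : 4 ∣ Nat.card G) :
    4 ∣ (Finset.univ.filter fun χ : IrrCharacter G => χ ∈ B ∧ ¬ 2 ∣ charDegree (χ : G → ℂ)).card := by
  classical
  have h1 := dvd_sum_block hM hB (a := 2) (by simpa using h4)
  have h2 : ∀ χ : IrrCharacter G, (4 : ℤ) ∣ (if χ ∈ B then (charDegree (χ : G → ℂ) : ℤ) ^ 2 else 0) -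
      (if χ ∈ B ∧ ¬ 2 ∣ charDegree (χ : G → ℂ) then 1 else 0) := by
    intro χ
    by_cases hχ : χ ∈ B
    · by_cases ho : 2 ∣ charDegree (χ : G → ℂ)
      · rw [if_pos hχ, if_neg (fun h => h.2 ho), sub_zero]
        obtain ⟨m, hm⟩ := ho
        exact ⟨(m : ℤ) ^ 2, by rw [hm]; push_cast; ring⟩
      · rw [if_pos hχ, if_pos ⟨hχ, ho⟩]
        obtain ⟨m, hm⟩ : ∃ m, charDegree (χ : G → ℂ) = 2 * m + 1 := ⟨charDegree (χ : G → ℂ) / 2, by omega⟩
        exact ⟨(m : ℤ) ^ 2 + m, by rw [hm]; push_cast; ring⟩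
    · rw [if_neg hχ, if_neg (fun h => hχ h.1), sub_zero]
      exact dvd_zero _
  have h3 := Finset.dvd_sum fun χ (_ : χ ∈ Finset.univ) => h2 χ
  rw [Finset.sum_sub_distrib, Finset.sum_boole] at h3
  have h4' : (4 : ℤ) ∣ ((Finset.univ.filter fun χ : IrrCharacter G =>
      χ ∈ B ∧ ¬ 2 ∣ charDegree (χ : G → ℂ)).card : ℤ) :=
    (dvd_sub_right (by simpa using h1)).1 (by convert h3 using 2)
  exact Int.natCast_dvd_natCast.1 h4'

omit [Finite G] in
theorem kb_eq_filter [Fintype (IrrCharacter G)]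
    [DecidablePred fun χ : IrrCharacter G => χ ∈ principalBlock M G ∧ ¬ 2 ∣ charDegree (χ : G → ℂ)] :
    kb M G = (Finset.univ.filter fun χ : IrrCharacter G =>
      χ ∈ principalBlock M G ∧ ¬ 2 ∣ charDegree (χ : G → ℂ)).card := by
  rw [kb, Nat.card_eq_fintype_card, Fintype.card_subtype]

theorem four_dvd_kb (hM : IsPModular 2 M) (h4 : 4 ∣ Nat.card G) : 4 ∣ kb M G := by
  classical
  have := finite_irr (G := G)
  have := Fintype.ofFinite (IrrCharacter G)
  rw [kb_eq_filter]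
  exact four_dvd_block hM ⟨⟨fun _ => 1, Basic.isIrrCharacter_one⟩, rfl⟩ h4

theorem four_le_kb (hM : IsPModular 2 M) (h4 : 4 ∣ Nat.card G) : 4 ≤ kb M G := by
  have : M.IsPrime := isPrime_of_isPModular hM
  exact Nat.le_of_dvd (kb_pos G) (four_dvd_kb hM h4)

/-- **The number of the characters of odd degree modulo `8`.** -/
theorem k0_mod_eight (hM : IsPModular 2 M) (h4 : 4 ∣ Nat.card G) : k0 G % 8 = kb M G % 8 := by
  classical
  have hp : M.IsPrime := isPrime_of_isPModular hM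
  have := finite_irr (G := G)
  have := Fintype.ofFinite (IrrCharacter G)
  set X : Finset (IrrCharacter G) := Finset.univ.filter fun χ : IrrCharacter G =>
    ¬ 2 ∣ charDegree (χ : G → ℂ) ∧ χ ∉ principalBlock M G with hX
  have hmemX : ∀ χ : IrrCharacter G, χ ∈ X ↔ ¬ 2 ∣ charDegree (χ : G → ℂ) ∧ χ ∉ principalBlock M G := by
    intro χ; rw [hX, Finset.mem_filter]; simp
  have hsplit : k0 G = kb M G + X.card := by
    have h1 : k0 G = (Finset.univ.filter fun χ : IrrCharacter G => ¬ 2 ∣ charDegree (χ : G → ℂ)).card := by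
      rw [k0, Nat.card_eq_fintype_card, Fintype.card_subtype]
    have h2 := Finset.card_filter_add_card_filter_not
      (s := Finset.univ.filter fun χ : IrrCharacter G => ¬ 2 ∣ charDegree (χ : G → ℂ))
      (fun χ => χ ∈ principalBlock M G)
    rw [Finset.filter_filter, Finset.filter_filter] at h2
    rw [h1, kb_eq_filter, hX, ← h2]
    congr 2
    exact Finset.filter_congr fun χ _ => and_comm
  clear_value X
  -- the blocks
  let f : IrrCharacter G → Set (IrrCharacter G) := fun χ => blockOf M (χ : G → ℂ)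
  have hf : ∀ χ ψ : IrrCharacter G, f χ = f ψ ↔ SameBlock M (χ : G → ℂ) (ψ : G → ℂ) := by
    intro χ ψ
    constructor
    · intro h
      have h1 : ψ ∈ f ψ := Basic.mem_blockOf_self ψ
      rw [← h] at h1
      exact h1
    · intro h
      ext φ
      exact ⟨fun h1 => Basic.sameBlock_trans (Basic.sameBlock_symm h) h1, fun h1 => Basic.sameBlock_trans h h1⟩
  have hcjX : ∀ χ ∈ X, S4490.cj χ ∈ X := by
    intro χ hχ
    rw [hmemX] at hχ ⊢
    refine ⟨?_, fun h => hχ.2 ?_⟩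
    · have h1 : charDegree (S4490.cj χ : G → ℂ) = charDegree (χ : G → ℂ) := by
        show ⌊((S4490.cj χ : G → ℂ) 1).re⌋₊ = ⌊((χ : G → ℂ) 1).re⌋₊
        rw [S4490.cj_one]
      rw [h1]; exact hχ.1
    · have h2 : SameBlock M (fun _ : G => (1 : ℂ)) (S4490.cj χ : G → ℂ) := h
      have h3 := H611.RealBlock.sameBlock_cj (χ := ⟨fun _ => 1, Basic.isIrrCharacter_one⟩) (ψ := S4490.cj χ) h2
      rw [S4490.cj_cj] at h3
      have h4 : (S4490.cj (⟨fun _ => 1, Basic.isIrrCharacter_one⟩ : IrrCharacter G) : G → ℂ) = fun _ => 1 := by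
        funext g
        rw [S4490.cj_apply]
        simp
      rw [h4] at h3
      exact h3
  have hfcj : ∀ χ ψ : IrrCharacter G, f χ = f ψ → f (S4490.cj χ) = f (S4490.cj ψ) := by
    intro χ ψ h
    rw [hf] at h ⊢
    exact H611.RealBlock.sameBlock_cj h
  -- the fibres
  have hfib : ∀ χ ∈ X, 4 ∣ (X.filter fun ψ => f ψ = f χ).card := by
    intro χ hχ
    have h1 := four_dvd_block hM (B := f χ) ⟨χ, rfl⟩ h4
    convert h1 using 2
    ext ψ
    rw [Finset.mem_filter (s := X), Finset.mem_filter, hmemX, hf]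
    rw [hmemX] at hχ
    constructor
    · rintro ⟨⟨h2, h3⟩, h5⟩
      exact ⟨Finset.mem_univ _, Basic.sameBlock_symm h5, h2⟩
    · rintro ⟨-, h2, h3⟩
      refine ⟨⟨h3, fun h5 => hχ.2 ?_⟩, Basic.sameBlock_symm h2⟩
      exact Basic.sameBlock_trans (h5 : SameBlock M (fun _ : G => (1 : ℂ)) (ψ : G → ℂ)) (Basic.sameBlock_symm h2)
  have hcim : ∀ χ : IrrCharacter G, S4490.cj '' f χ = f (S4490.cj χ) := by
    intro χ
    ext φ
    constructor
    · rintro ⟨ψ, hψ, rfl⟩
      exact H611.RealBlock.sameBlock_cj (hψ : SameBlock M (χ : G → ℂ) (ψ : G → ℂ))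
    · intro h
      refine ⟨S4490.cj φ, ?_, S4490.cj_cj φ⟩
      have h1 := H611.RealBlock.sameBlock_cj (h : SameBlock M (S4490.cj χ : G → ℂ) (φ : G → ℂ))
      rw [S4490.cj_cj] at h1
      exact h1
  have hcfib : ∀ χ : IrrCharacter G, (X.filter fun ψ => f ψ = f (S4490.cj χ)).card =
      (X.filter fun ψ => f ψ = f χ).card := by
    intro χ
    refine Finset.card_bij' (fun ψ _ => S4490.cj ψ) (fun ψ _ => S4490.cj ψ) ?_ ?_ ?_ ?_
    · intro ψ hψ
      rw [Finset.mem_filter] at hψ ⊢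
      refine ⟨hcjX _ hψ.1, ?_⟩
      have h1 := hfcj _ _ hψ.2
      rwa [S4490.cj_cj] at h1
    · intro ψ hψ
      rw [Finset.mem_filter] at hψ ⊢
      exact ⟨hcjX _ hψ.1, hfcj _ _ hψ.2⟩
    · intro ψ _
      exact S4490.cj_cj ψ
    · intro ψ _
      exact S4490.cj_cj ψ
  have hcard : ((X.card : ℕ) : ZMod 8) = 0 := by
    rw [Finset.card_eq_sum_card_image f X, Nat.cast_sum]
    refine Finset.sum_involution (fun b _ => S4490.cj '' b) ?_ ?_ ?_ ?_
    · intro b hb
      obtain ⟨χ, hχ, rfl⟩ := Finset.mem_image.1 hb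
      rw [hcim, hcfib]
      obtain ⟨m, hm⟩ := hfib χ hχ
      rw [hm]
      have h8 : ((8 : ℕ) : ZMod 8) = 0 := ZMod.natCast_self 8
      push_cast at h8 ⊢
      linear_combination (m : ZMod 8) * h8
    · intro b hb _ hfix
      obtain ⟨χ, hχ, rfl⟩ := Finset.mem_image.1 hb
      rw [hcim, eq_comm, hf] at hfix
      rw [hmemX] at hχ
      exact hχ.2 (H611.RealBlock.mem_principalBlock_of_odd hM χ hfix hχ.1)
    · intro b hb
      obtain ⟨χ, hχ, rfl⟩ := Finset.mem_image.1 hb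
      rw [hcim]
      exact Finset.mem_image_of_mem f (hcjX χ hχ)
    · intro b _
      rw [Set.image_image]
      simp only [S4490.cj_cj, Set.image_id']
  rw [ZMod.natCast_eq_zero_iff] at hcard
  omega

end Cfsg.Agent.H514.K4B0
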