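import Cfsg.Agent.H714.K4.Quot
import Cfsg.Agent.H626.PrincipalOver
import Cfsg.Agent.H633.Unique
import Cfsg.Agent.Blocks.UniqueBlock
import Cfsg.Agent.H703.Lat.Basic

/-!
# Four characters of odd degree in the principal block (S4925, helper514): definitions

* `kb M G` : the number of irreducible characters of odd degree in the principal `2`-block;
* `ob M G` : their set (of functions), `kb_eq`;
* `RowAB M S` : the Sylow `2`-subgroups `P` of `S` satisfy `|P : P'| = 4`, or the principal block of `S` has five
  irreducible characters of odd degree;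
* `kb_le_of_surjective`, `kb_congr`, `rowAB_congr`.
-/

set_option autoImplicit false

namespace Cfsg.Agent.H514.K4B0

open Cfsg Subgroup Cfsg.Agent.Characters.Core
open Cfsg.Agent.Blocks.Local
open Cfsg.Agent.H714.K4 (odd odd_finite odd_comp charDegree_comp index_commutator_of_surjective
  index_commutator_congr syl_congr)

universe u

variable {M : Ideal AlgInt}

/-- The number of irreducible characters of odd degree in the principal block. -/
noncomputable def kb (M : Ideal AlgInt) (G : Type u) [Group G] : ℕ :=
  Nat.card {χ : IrrCharacter G // χ ∈ principalBlock M G ∧ ¬ 2 ∣ charDegree (χ : G → ℂ)}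

/-- The set of the irreducible characters of odd degree in the principal block. -/
def ob (M : Ideal AlgInt) (G : Type u) [Group G] : Set (G → ℂ) :=
  {χ | χ ∈ odd G ∧ SameBlock M (fun _ : G => (1 : ℂ)) χ}

/-- The Sylow `2`-subgroups of `S` have an abelianization of order `4`, or there are five irreducible characters
of odd degree in the principal block. -/
def RowAB (M : Ideal AlgInt) (S : Type u) [Group S] : Prop :=
  (∀ P : Sylow 2 S, (commutator ↥P).index = 4) ∨ 5 ≤ kb M S

theorem mem_ob {G : Type u} [Group G] {χ : G → ℂ} :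
    χ ∈ ob M G ↔ χ ∈ odd G ∧ SameBlock M (fun _ : G => (1 : ℂ)) χ := Iff.rfl

theorem ob_finite (M : Ideal AlgInt) (G : Type u) [Group G] [Finite G] : (ob M G).Finite :=
  (odd_finite G).subset fun _ h => h.1

theorem kb_eq (M : Ideal AlgInt) (G : Type u) [Group G] : kb M G = (ob M G).ncard := by
  rw [kb, ← Nat.card_coe_set_eq]
  exact Nat.card_congr
    { toFun := fun χ => ⟨χ.1.1, ⟨χ.1.2, χ.2.2⟩, χ.2.1⟩
      invFun := fun χ => ⟨⟨χ.1, χ.2.1.1⟩, χ.2.2, χ.2.1.2⟩
      left_inv := fun _ => rfl
      right_inv := fun _ => rfl }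

/-- Blocks of quotients. -/
theorem sameBlock_comp [M.IsPrime] {G Q : Type*} [Group G] [Group Q] (f : G →* Q) (hf : Function.Surjective f)
    {χ ψ : Q → ℂ} (h : SameBlock M χ ψ) : SameBlock M (fun g => χ (f g)) (fun g => ψ (f g)) := by
  have key : ∀ (φ : Q → ℂ) (g : G), centralChar (fun g => φ (f g)) g =
      ((centralizer ({g} : Set G)).relIndex ((centralizer ({f g} : Set Q)).comap f) : ℂ) *
        centralChar φ (f g) := by
    intro φ g
    have hle : centralizer ({g} : Set G) ≤ (centralizer ({f g} : Set Q)).comap f := by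
      intro x hx
      rw [mem_comap, mem_centralizer_singleton_iff]
      rw [mem_centralizer_singleton_iff] at hx
      rw [← map_mul, hx, map_mul]
    have h1 := relIndex_mul_index hle
    rw [index_comap_of_surjective _ hf] at h1
    unfold centralChar
    rw [← h1]
    simp only [map_one]
    push_cast
    ring
  intro g
  rw [key, key, ← mul_sub]
  exact memLocalIdeal_mul_left (memLocalRing_natCast _) (h _)

theorem ob_comp [M.IsPrime] {G Q : Type u} [Group G] [Group Q] (f : G →* Q) (hf : Function.Surjective f)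
    {χ : Q → ℂ} (h : χ ∈ ob M Q) : (fun g => χ (f g)) ∈ ob M G :=
  ⟨odd_comp f hf h.1, sameBlock_comp f hf h.2⟩

theorem kb_le_of_surjective [M.IsPrime] {G Q : Type u} [Group G] [Finite G] [Group Q] (f : G →* Q)
    (hf : Function.Surjective f) : kb M Q ≤ kb M G := by
  rw [kb_eq, kb_eq]
  refine Set.ncard_le_ncard_of_injOn (fun χ g => χ (f g)) (fun χ h => ob_comp f hf h) ?_ (ob_finite M G)
  intro χ _ ψ _ h
  funext q
  obtain ⟨g, rfl⟩ := hf q
  exact congrFun h g

theorem kb_congr [M.IsPrime] {S T : Type u} [Group S] [Finite S] [Group T] (e : S ≃* T) : kb M S = kb M T := by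
  have : Finite T := Finite.of_equiv S e.toEquiv
  exact le_antisymm (kb_le_of_surjective e.symm.toMonoidHom e.symm.surjective)
    (kb_le_of_surjective e.toMonoidHom e.surjective)

theorem rowAB_congr [M.IsPrime] {S T : Type u} [Group S] [Finite S] [Group T] (e : S ≃* T) (h : RowAB M S) :
    RowAB M T := by
  rcases h with h | h
  · exact Or.inl (syl_congr e h)
  · exact Or.inr (by rwa [← kb_congr e])

theorem one_mem_ob [M.IsPrime] {G : Type u} [Group G] : (1 : G → ℂ) ∈ ob M G :=
  ⟨H714.K4.one_mem_odd, Blocks.Basic.sameBlock_refl _⟩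

theorem kb_pos [M.IsPrime] (G : Type u) [Group G] [Finite G] : 1 ≤ kb M G := by
  rw [kb_eq, Nat.one_le_iff_ne_zero]
  intro h
  rw [Set.ncard_eq_zero (ob_finite M G)] at h
  have h1 : (1 : G → ℂ) ∈ ob M G := one_mem_ob
  rw [h] at h1
  exact h1

end Cfsg.Agent.H514.K4B0
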