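import Cfsg.Agent.H514.K4B0.PGrp
import Cfsg.Agent.H626.PrincipalOver
import Cfsg.Agent.H628.PPrimeKer
import Cfsg.Agent.H686.CharKit

/-!
# Four characters of odd degree in the principal block (S4925, helper514): the quotient step

* `exists_over_lin` : the linear characters of `P` lie under odd-degree members of the principal block;
* `kb_quot`, `quot_step`.
-/

set_option autoImplicit false

namespace Cfsg.Agent.H514.K4B0

open Cfsg Subgroup Cfsg.Agent.Characters.Core
open Cfsg.Agent.Blocks Cfsg.Agent.Blocks.Local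
open Cfsg.Agent.H714.K4 (odd odd_finite k0 k0_eq index_commutator_of_surjective)
open scoped ComplexConjugate

universe u

variable {M : Ideal AlgInt} {G : Type u} [Group G] [Finite G]

/-- A linear character of `P` lies under a member of odd degree of the principal block. -/
theorem exists_over_lin (hM : IsPModular 2 M) (P : Sylow 2 G) (f : (P : Subgroup G) →* ℂˣ) :
    ∃ χ ∈ ob M G, H626.ip (fun x : (P : Subgroup G) => (f x : ℂ)) (fun x : (P : Subgroup G) => χ x) ≠ 0 := by
  have : Fact (Nat.Prime 2) := ⟨Nat.prime_two⟩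
  obtain ⟨χ, h1, h2, h3⟩ := H626.exists_over_principal hM P (P : Subgroup G) le_rfl (H268.K4.Mod4.linOdd f).1
    (sameBlock_of_pgroup hM P.2 ⟨fun _ => 1, Basic.isIrrCharacter_one⟩ _) (H268.K4.Mod4.linOdd f).2
  exact ⟨χ, ⟨⟨χ.2, h2⟩, h1⟩, h3⟩

/-- An element of `P` in the kernels of the odd-degree members of the principal block is in `P'`. -/
theorem mem_commutator_of_ob (hM : IsPModular 2 M) (P : Sylow 2 G) {x : (P : Subgroup G)}
    (hx : ∀ χ ∈ ob M G, χ (x : G) = χ 1) : x ∈ commutator (P : Subgroup G) := by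
  apply H628.PPrimeKer.mem_commutator_of_hom
  intro f
  obtain ⟨χ, hχ, hne⟩ := exists_over_lin hM P f
  have := Fintype.ofFinite (P : Subgroup G)
  rw [H626.ip_eq, classInner_def] at hne
  have h1 : ∀ y : (P : Subgroup G), χ ((x : G) * y) = χ y := fun y =>
    H686.CharKit.apply_mul_of_eq (isIrr_isCharacter hχ.1.1) (hx χ hχ) y
  have h2 : ∑ y : (P : Subgroup G), (f y : ℂ) * conj (χ y) =
      (f x : ℂ) * ∑ y : (P : Subgroup G), (f y : ℂ) * conj (χ y) := by
    refine (Equiv.sum_comp (Equiv.mulLeft x) (fun y : (P : Subgroup G) => (f y : ℂ) * conj (χ y))).symm.trans ?_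
    rw [Finset.mul_sum]
    refine Finset.sum_congr rfl fun y _ => ?_
    show (f (x * y) : ℂ) * conj (χ ((x : G) * y)) = _
    rw [h1, map_mul, Units.val_mul, mul_assoc]
  have h3 : (∑ y : (P : Subgroup G), (f y : ℂ) * conj (χ y)) ≠ 0 := fun h => hne (by rw [h, mul_zero])
  have h4 : (f x : ℂ) = 1 := by
    have h5 : ((f x : ℂ) - 1) * ∑ y : (P : Subgroup G), (f y : ℂ) * conj (χ y) = 0 := by
      rw [sub_mul, one_mul, ← h2, sub_self]
    exact sub_eq_zero.1 ((mul_eq_zero.1 h5).resolve_right h3)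
  exact Units.ext h4

theorem kb_quot (hM : IsPModular 2 M) (N : Subgroup G) [N.Normal] (h4 : kb M G = 4) (hN : 4 ∣ N.index) :
    kb M (G ⧸ N) = 4 := by
  have : M.IsPrime := isPrime_of_isPModular hM
  have h1 := kb_le_of_surjective (M := M) (QuotientGroup.mk' N) (QuotientGroup.mk'_surjective N)
  have h2 := four_le_kb (G := G ⧸ N) hM (by rwa [← index_eq_card])
  omega

/-- If the quotient has equally many such characters, they all come from it. -/
theorem ob_eq_of_kb_eq (hM : IsPModular 2 M) (N : Subgroup G) [N.Normal] (h : kb M (G ⧸ N) = kb M G) {χ : G → ℂ}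
    (hχ : χ ∈ ob M G) : ∃ ψ ∈ ob M (G ⧸ N), (fun g : G => ψ (QuotientGroup.mk' N g)) = χ := by
  have : M.IsPrime := isPrime_of_isPModular hM
  have h1 : (fun (ψ : G ⧸ N → ℂ) (g : G) => ψ (QuotientGroup.mk' N g)) '' ob M (G ⧸ N) = ob M G := by
    apply Set.eq_of_subset_of_ncard_le
    · rintro _ ⟨ψ, hψ, rfl⟩
      exact ob_comp (QuotientGroup.mk' N) (QuotientGroup.mk'_surjective N) hψ
    · rw [Set.ncard_image_of_injective, ← kb_eq, ← kb_eq, h]
      intro α β hab
      funext q
      obtain ⟨g, rfl⟩ := QuotientGroup.mk'_surjective N q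
      exact congrFun hab g
    · exact ob_finite M G
  rw [← h1] at hχ
  exact hχ

/-- The quotient step. -/
theorem quot_step (hM : IsPModular 2 M) (N : Subgroup G) [N.Normal] (h : kb M (G ⧸ N) = kb M G) (P : Sylow 2 G)
    (hq : ∀ Q : Sylow 2 (G ⧸ N), (commutator ↥Q).index = 4) : (commutator ↥P).index = 4 := by
  have hs := QuotientGroup.mk'_surjective N
  rw [← hq (P.mapSurjective hs)]
  refine index_commutator_of_surjective (B := (P.mapSurjective hs : Sylow 2 (G ⧸ N)))
    ((QuotientGroup.mk' N).subgroupMap (P : Subgroup G)) ((QuotientGroup.mk' N).subgroupMap_surjective _) ?_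
  intro x hx
  refine mem_commutator_of_ob hM P fun χ hχ => ?_
  obtain ⟨ψ, -, rfl⟩ := ob_eq_of_kb_eq hM N h hχ
  have h1 : QuotientGroup.mk' N x = 1 := congrArg Subtype.val hx
  show ψ (QuotientGroup.mk' N x) = ψ (QuotientGroup.mk' N 1)
  rw [h1, map_one]

end Cfsg.Agent.H514.K4B0
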